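import Groth.Prelude.Def_DRing2
import Groth.Prelude.Def_Koszul
import Groth.Agent.CechX.KoszulBasic

/-!
Koszul complexes: permutation invariance, tensoring with a module, and appending elements of the
ideal generated by the rest.
-/

namespace Groth.Agent.KosSpan

universe u

open CategoryTheory CategoryTheory.Limits CochainComplex MonoidalCategory
open Groth.Agent.CechX

variable {R : Type u} [CommRing R]

/-- Koszul cones in two blocks commute. -/
noncomputable def kcComm : (fs gs : List R) → (K : CochainComplex (ModuleCat.{u} R) ℤ) →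
    (KC fs (KC gs K) ≅ KC gs (KC fs K))
  | [], _, _ => Iso.refl _
  | f :: fs, gs, K => mconeIso f (kcComm fs gs K) ≪≫ kcSwap f gs (KC fs K)

/-- Koszul cones do not depend on the order. -/
theorem kc_perm {l l' : List R} (h : l.Perm l') (K : CochainComplex (ModuleCat.{u} R) ℤ) :
    Nonempty (KC l K ≅ KC l' K) := by
  induction h with
  | nil => exact ⟨Iso.refl _⟩
  | cons x _ ih => exact ⟨mconeIso x ih.some⟩
  | swap x y l => exact ⟨swapIso y x (KC l K)⟩
  | trans _ _ ih₁ ih₂ => exact ⟨ih₁.some ≪≫ ih₂.some⟩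

/-- The functor `- ⊗ M` on complexes. -/
noncomputable abbrev tensorF (M : ModuleCat.{u} R) :
    CochainComplex (ModuleCat.{u} R) ℤ ⥤ CochainComplex (ModuleCat.{u} R) ℤ :=
  (tensorRight M).mapHomologicalComplex (ComplexShape.up ℤ)

theorem tensorF_smul_id (M : ModuleCat.{u} R) (a : R) (K : CochainComplex (ModuleCat.{u} R) ℤ) :
    (tensorF M).map (a • 𝟙 K) = a • 𝟙 ((tensorF M).obj K) := by
  ext p : 1
  show (tensorRight M).map ((a • 𝟙 K : K ⟶ K).f p) = _
  simp
  rfl

/-- The Koszul complex tensored with a module. -/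
noncomputable def tensorKoszulIso (M : ModuleCat.{u} R) : (l : List R) →
    (DRing.tensorCx (Koszul.koszul R l) M ≅ KC l (single0 M))
  | [] => (HomologicalComplex.singleMapHomologicalComplex (tensorRight M) (ComplexShape.up ℤ) 0).app
      (ModuleCat.of R R) ≪≫ (HomologicalComplex.single (ModuleCat.{u} R) (ComplexShape.up ℤ) 0).mapIso (λ_ M)
  | a :: l => CochainComplex.mappingCone.mapHomologicalComplexIso (a • 𝟙 (Koszul.koszul R l)) (tensorRight M) ≪≫
      eqToIso (congrArg (fun φ => mappingCone φ) (tensorF_smul_id M a (Koszul.koszul R l))) ≪≫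
      mconeIso a (tensorKoszulIso M l)

/-- Multiplication by an element of the ideal is null homotopic. -/
theorem nullHtpy_KC (M : ModuleCat.{u} R) {xs : List R} {y : R} (hy : y ∈ Ideal.span {a | a ∈ xs}) :
    ∀ ys : List R, NullHtpy y (KC ys (KC xs (single0 M)))
  | [] => by
    have h := nullHtpy_of_mem_span M hy
    rw [koszulCx_eq] at h
    exact h
  | z :: ys => (nullHtpy_KC M hy ys).cone z

/-- The map on cycles which computes the homology of the cone of a null homotopic multiplication. -/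
theorem nonempty_homology_mcone {y : R} {K : CochainComplex (ModuleCat.{u} R) ℤ} (h : NullHtpy y K) (p : ℤ) :
    Nonempty (↑((mcone y K).homology p) ≃ₗ[R] ↑(K.homology (p + 1)) × ↑(K.homology p)) := by
  obtain ⟨s, hs⟩ := h
  let φ := y • 𝟙 K
  let C := mcone y K
  have key : ∀ z : LinearMap.ker (C.d p (p + 1)).hom,
      K.d (p + 1) (p + 1 + 1) (c1 φ p (p + 1) rfl z.1) = 0 ∧
        y • c1 φ p (p + 1) rfl z.1 + K.d p (p + 1) (c2 φ p z.1) = 0 := fun z => by
    have h1 := c1_d (φ := φ) (rfl : p + 1 = p + 1) (rfl : p + 1 + 1 = p + 1 + 1) z.1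
    have h2 := c2_d (φ := φ) (rfl : p + 1 = p + 1) z.1
    rw [show (mappingCone φ).d p (p + 1) z.1 = 0 from z.2, map_zero] at h1 h2
    rw [smul_id_f_apply] at h2
    exact ⟨neg_eq_zero.mp h1.symm, h2.symm⟩
  let a : LinearMap.ker (C.d p (p + 1)).hom →ₗ[R] LinearMap.ker (K.d (p + 1) (p + 1 + 1)).hom :=
    LinearMap.codRestrict _ ((c1 φ p (p + 1) rfl).comp (Submodule.subtype _)) fun z => (key z).1
  let b : LinearMap.ker (C.d p (p + 1)).hom →ₗ[R] LinearMap.ker (K.d p (p + 1)).hom :=
    LinearMap.codRestrict _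
      ((c2 φ p).comp (Submodule.subtype _) +
        (s (p + 1) p rfl).comp ((c1 φ p (p + 1) rfl).comp (Submodule.subtype _))) fun z => by
      show K.d p (p + 1) (c2 φ p z.1 + s (p + 1) p rfl (c1 φ p (p + 1) rfl z.1)) = 0
      have h3 := hs p (p + 1) (p + 1 + 1) rfl rfl (c1 φ p (p + 1) rfl z.1)
      rw [(key z).1, map_zero, add_zero] at h3
      rw [map_add, h3]
      exact (add_comm _ _).trans (key z).2
  let g := LinearMap.prod ((hcls K (p + 1)).comp a) ((hcls K p).comp b)
  have hg : Function.Surjective g := fun w => by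
    obtain ⟨⟨x, hx⟩, hx'⟩ := hcls_surjective (p + 1) w.1
    obtain ⟨⟨v, hv⟩, hv'⟩ := hcls_surjective p w.2
    have hz : C.d p (p + 1) (cmk φ p (p + 1) rfl x (v - s (p + 1) p rfl x)) = 0 := by
      refine cone_ext (rfl : p + 1 + 1 = p + 1 + 1) ?_ ?_
      · rw [c1_d rfl rfl, c1_cmk, show K.d (p + 1) (p + 1 + 1) x = 0 from hx, neg_zero, map_zero]
      · rw [c2_d rfl, c1_cmk, c2_cmk, map_zero, smul_id_f_apply, map_sub,
          show K.d p (p + 1) v = 0 from hv, zero_sub]
        have h3 := hs p (p + 1) (p + 1 + 1) rfl rfl x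
        rw [show K.d (p + 1) (p + 1 + 1) x = 0 from hx, map_zero, add_zero] at h3
        rw [h3, add_neg_cancel]
    refine ⟨⟨_, hz⟩, Prod.ext ((congrArg (hcls K (p + 1)) (Subtype.ext ?_)).trans hx')
      ((congrArg (hcls K p) (Subtype.ext ?_)).trans hv')⟩
    · exact c1_cmk _ _ _
    · show c2 φ p (cmk φ p (p + 1) rfl x (v - s (p + 1) p rfl x)) +
        s (p + 1) p rfl (c1 φ p (p + 1) rfl (cmk φ p (p + 1) rfl x (v - s (p + 1) p rfl x))) = v
      rw [c1_cmk, c2_cmk, sub_add_cancel]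
  have hker : LinearMap.ker g = LinearMap.ker (hcls C p) := by
    ext z
    rw [LinearMap.mem_ker, LinearMap.mem_ker, hcls_eq_zero_iff p (p - 1) (sub_add_cancel p 1)]
    show ((hcls K (p + 1)) (a z), (hcls K p) (b z)) = 0 ↔ _
    rw [Prod.mk_eq_zero, hcls_eq_zero_iff (p + 1) p rfl, hcls_eq_zero_iff p (p - 1) (sub_add_cancel p 1)]
    constructor
    · rintro ⟨⟨u, hu⟩, v, hv⟩
      have hu' : K.d p (p + 1) u = c1 φ p (p + 1) rfl z.1 := hu
      have hv' : K.d (p - 1) p v = c2 φ p z.1 + s (p + 1) p rfl (c1 φ p (p + 1) rfl z.1) := hv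
      refine ⟨cmk φ (p - 1) p (sub_add_cancel p 1) (-u) (v + s p (p - 1) (sub_add_cancel p 1) u),
        cone_ext (rfl : p + 1 = p + 1) ?_ ?_⟩
      · rw [c1_d (sub_add_cancel p 1) rfl, c1_cmk, map_neg, neg_neg, hu']
      · rw [c2_d (sub_add_cancel p 1), c1_cmk, c2_cmk, smul_id_f_apply, map_add, hv', smul_neg,
          ← hs (p - 1) p (p + 1) (sub_add_cancel p 1) rfl u, hu']
        abel
    · rintro ⟨w, hw⟩
      have h1 := c1_d (φ := φ) (sub_add_cancel p 1) (rfl : p + 1 = p + 1) w
      have h2 := c2_d (φ := φ) (sub_add_cancel p 1) w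
      rw [show (mappingCone φ).d (p - 1) p w = z.1 from hw] at h1 h2
      rw [smul_id_f_apply] at h2
      refine ⟨⟨-c1 φ (p - 1) p (sub_add_cancel p 1) w, ?_⟩,
        c2 φ (p - 1) w + s p (p - 1) (sub_add_cancel p 1) (c1 φ (p - 1) p (sub_add_cancel p 1) w), ?_⟩
      · show K.d p (p + 1) (-c1 φ (p - 1) p (sub_add_cancel p 1) w) = c1 φ p (p + 1) rfl z.1
        rw [h1, map_neg]
      · show K.d (p - 1) p _ = c2 φ p z.1 + s (p + 1) p rfl (c1 φ p (p + 1) rfl z.1)
        rw [h1, h2, map_add, map_neg, ← hs (p - 1) p (p + 1) (sub_add_cancel p 1) rfl]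
        abel
  exact ⟨((hcls C p).quotKerEquivOfSurjective (hcls_surjective p)).symm ≪≫ₗ
    Submodule.quotEquivOfEq _ _ hker.symm ≪≫ₗ g.quotKerEquivOfSurjective hg⟩

/-- Homology of appending null homotopic elements, with an abstract index type. -/
theorem exists_homology_KC {xs : List R} (M : ModuleCat.{u} R) : ∀ (ys : List R),
    (∀ y ∈ ys, y ∈ Ideal.span {a | a ∈ xs}) →
    ∃ (ι : Type) (_ : Fintype ι) (w : ι → ℕ),
      (∀ j, Fintype.card {i // w i = j} = ys.length.choose j) ∧
      ∀ m : ℤ, Nonempty (↑((KC ys (KC xs (single0 M))).homology m) ≃ₗ[R]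
        ∀ i, ↑((KC xs (single0 M)).homology (m + w i)))
  | [], _ => by
    refine ⟨Unit, inferInstance, fun _ => 0, fun j => ?_, fun m => ?_⟩
    · cases j with
      | zero => simp [Fintype.card_subtype]
      | succ j => simp [Fintype.card_subtype]
    · exact ⟨(eqToIso (congrArg (fun i => (KC xs (single0 M)).homology i) (show m = m + ((0 : ℕ) : ℤ) by simp))).toLinearEquiv ≪≫ₗ
        (LinearEquiv.funUnique Unit R _).symm⟩
  | y :: ys, h => by
    obtain ⟨ι, _, w, hw, he⟩ := exists_homology_KC M ys fun z hz => h z (List.mem_cons_of_mem _ hz)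
    refine ⟨ι ⊕ ι, inferInstance, Sum.elim (fun i => w i + 1) w, fun j => ?_, fun m => ?_⟩
    · rw [Fintype.card_congr (Equiv.subtypeSum (p := fun i => Sum.elim (fun i => w i + 1) w i = j)),
        Fintype.card_sum, List.length_cons]
      cases j with
      | zero =>
        refine (congrArg (· + _) (Fintype.card_eq_zero_iff.2 ⟨fun i => Nat.succ_ne_zero _ i.2⟩)).trans ?_
        rw [zero_add]
        exact (hw 0).trans (by simp)
      | succ j =>
        rw [Nat.choose_succ_succ, ← hw j, ← hw (j + 1)]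
        exact congrArg₂ (· + ·) (Fintype.card_congr (Equiv.subtypeEquivRight fun i => Nat.succ_inj))
          (Fintype.card_congr (Equiv.refl _))
    · obtain ⟨e⟩ := nonempty_homology_mcone (nullHtpy_KC M (h y List.mem_cons_self) ys) m
      obtain ⟨e₁⟩ := he (m + 1)
      obtain ⟨e₂⟩ := he m
      exact ⟨e ≪≫ₗ (e₁ ≪≫ₗ LinearEquiv.piCongrRight fun i =>
          (eqToIso (congrArg (fun i => (KC xs (single0 M)).homology i)
            (show m + 1 + (w i : ℤ) = m + ((w i + 1 : ℕ) : ℤ) by push_cast; ring))).toLinearEquiv).prodCongr e₂ ≪≫ₗ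
        (LinearEquiv.sumPiEquivProdPi R ι ι
          (fun i => ↑((KC xs (single0 M)).homology (m + (Sum.elim (fun i => w i + 1) w i : ℕ))))).symm⟩

/-- Reindexing a product along the fibres of a weight function. -/
theorem nonempty_pi_fibres {ι : Type} [Fintype ι] (w : ι → ℕ) (r : ℕ)
    (hw : ∀ j, Fintype.card {i // w i = j} = r.choose j)
    (N : ℕ → Type u) [∀ n, AddCommGroup (N n)] [∀ n, Module R (N n)] :
    Nonempty ((∀ i, N (w i)) ≃ₗ[R] ((j : Fin (r + 1)) → Fin (r.choose j) → N j)) := by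
  have hr : ∀ i, w i < r + 1 := fun i => by
    by_contra hc
    have h1 := hw (w i)
    rw [Nat.choose_eq_zero_of_lt (by omega), Fintype.card_eq_zero_iff] at h1
    exact h1.false ⟨i, rfl⟩
  let e : ∀ j : Fin (r + 1), Fin (r.choose j) ≃ {i // w i = (j : ℕ)} := fun j =>
    (Fintype.equivFinOfCardEq (hw j)).symm
  let σ : (Σ j : Fin (r + 1), Fin (r.choose j)) ≃ ι :=
    ((Equiv.sigmaCongrRight e).trans
      (Equiv.sigmaCongrRight fun j => Equiv.subtypeEquivRight fun i => ⟨fun h => Fin.ext h, fun h => by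
        have := congrArg Fin.val h; exact this⟩)).trans
      (Equiv.sigmaFiberEquiv fun i => (⟨w i, hr i⟩ : Fin (r + 1)))
  have hσ : ∀ x, w (σ x) = x.1 := fun x => (e x.1 x.2).2
  exact ⟨(LinearEquiv.piCongrLeft R (fun i => N (w i)) σ).symm ≪≫ₗ
    (LinearEquiv.piCongrRight fun x => LinearEquiv.cast (R := R) (M := N) (hσ x)) ≪≫ₗ
    LinearEquiv.piCurry R (fun (j : Fin (r + 1)) (_ : Fin (r.choose j)) => N j)⟩

end Groth.Agent.KosSpan
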