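import Groth.Agent.KosSpan.Basic
import Groth.Agent.KoszulLib.Iff
import Groth.Agent.S15821
import Groth.Prelude.Def_LCI2

/-!
Homology of the Koszul complex of a generating list containing a regular generating sublist.
-/

namespace Groth.Agent.KosSpan

universe u

open CategoryTheory CategoryTheory.Limits CochainComplex
open Groth.Agent.CechX

variable {R : Type u} [CommRing R]

theorem koszul_eq : ∀ l : List R, Koszul.koszul R l = KC l (single0 (ModuleCat.of R R))
  | [] => rfl
  | _ :: l => congrArg (KC [_]) (koszul_eq l)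

/-- Koszul complexes of unit ideals are exact. -/
theorem isZero_homology_of_one_mem {l : List R} (h : (1 : R) ∈ Ideal.ofList l) (i : ℤ) :
    IsZero ((Koszul.koszul R l).homology i) := by
  rw [koszul_eq]
  exact isZero_homology_of_nullHtpy_one (nullHtpy_KC (ModuleCat.of R R) h []) i

/-- Koszul homology of `l` when a regular part `f` of `l` generates the same ideal. -/
theorem nonempty_homology_koszul {l f : List R} (hnd : f.Nodup) (hsub : f ⊆ l)
    (hf : RingTheory.Sequence.IsWeaklyRegular R f) (hl : ∀ y ∈ l, y ∈ Ideal.ofList f) (q : ℕ) :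
    Nonempty (↑((Koszul.koszul R l).homology (-(q : ℤ))) ≃ₗ[R]
      (Fin ((l.length - f.length).choose q) → R ⧸ Ideal.ofList f)) := by
  classical
  obtain ⟨f', hp, hs⟩ := hnd.subperm hsub
  obtain ⟨ys, hys⟩ : ∃ ys, List.Perm l (ys ++ f) :=
    ⟨l.diff f, ((List.subperm_append_diff_self_of_count_le fun x _ =>
      (List.Subperm.count_le ⟨f', hp, hs⟩ x)).symm).trans List.perm_append_comm⟩
  have hlen : ys.length = l.length - f.length := by
    have := hys.length_eq
    rw [List.length_append] at this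
    omega
  obtain ⟨hreg, ⟨e0⟩⟩ := Groth.Agent.S15821.result R f hf
  obtain ⟨ι, _, w, hw, he⟩ := exists_homology_KC (xs := f) (ModuleCat.of R R) ys
    fun y hy => hl y (hys.symm.subset (List.mem_append_left _ hy))
  obtain ⟨e₁⟩ := he (-(q : ℤ))
  obtain ⟨p⟩ := kc_perm hys (single0 (ModuleCat.of R R))
  let e₀ := (HomologicalComplex.homologyMapIso (eqToIso (koszul_eq l) ≪≫ p ≪≫
    eqToIso (KC_append ys f _)) (-(q : ℤ))).toLinearEquiv
  let N : ι → ModuleCat.{u} R := fun i => (KC f (single0 (ModuleCat.of R R))).homology (-(q : ℤ) + w i)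
  have hz : ∀ i, w i ≠ q → Subsingleton ↑(N i) := fun i hi => by
    refine ModuleCat.subsingleton_of_isZero ?_
    show IsZero ((KC f (single0 (ModuleCat.of R R))).homology (-(q : ℤ) + w i))
    rw [← koszul_eq]
    exact hreg _ (by omega)
  let ev : ∀ i : {i // w i = q}, ↑(N i.1) ≃ₗ[R] R ⧸ Ideal.ofList f := fun i =>
    (eqToIso (show N i.1 = (Koszul.koszul R f).homology 0 by
      show (KC f (single0 (ModuleCat.of R R))).homology (-(q : ℤ) + w i.1) = _
      rw [koszul_eq, show (-(q : ℤ) + w i.1) = 0 by rw [i.2]; omega]) ≪≫ e0).toLinearEquiv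
  let r : (∀ i, ↑(N i)) →ₗ[R] ({i // w i = q} → R ⧸ Ideal.ofList f) :=
    LinearMap.pi fun i => (ev i).toLinearMap.comp (LinearMap.proj i.1)
  have hr : Function.Bijective r := by
    refine ⟨fun x y h => funext fun i => ?_, fun y => ⟨fun i => if hi : w i = q then (ev ⟨i, hi⟩).symm (y ⟨i, hi⟩) else 0,
      funext fun i => ?_⟩⟩
    · by_cases hi : w i = q
      · exact (ev ⟨i, hi⟩).injective (congrFun h ⟨i, hi⟩)
      · exact (hz i hi).elim _ _
    · show ev i (dite _ _ _) = y i
      rw [dif_pos i.2]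
      exact (ev i).apply_symm_apply _
  exact ⟨e₀ ≪≫ₗ e₁ ≪≫ₗ LinearEquiv.ofBijective r hr ≪≫ₗ LinearEquiv.funCongrLeft R _
    (Fintype.equivFinOfCardEq ((hw q).trans (congrArg (·.choose q) hlen))).symm⟩

end Groth.Agent.KosSpan
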